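import Mathlib

/-!
# Subgroups with centre of order three and a given central quotient
-/

set_option autoImplicit false

namespace CfsgLib.U62K

variable {G G' : Type*} [Group G] [Group G'] (Q : Type*) [Group Q]

/-- the centre has order three and the central quotient is `Q` -/
def Ty (K : Subgroup G) : Prop :=
  Nat.card (Subgroup.center K) = 3 ∧ Nonempty (K ⧸ Subgroup.center K ≃* Q)

variable {Q}

theorem Ty.of_equiv {K : Subgroup G} {K' : Subgroup G'} (e : K ≃* K') (h : Ty Q K) : Ty Q K' := by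
  refine ⟨(Nat.card_congr (Subgroup.centerCongr e).toEquiv).symm.trans h.1, ?_⟩
  obtain ⟨f⟩ := h.2
  refine ⟨(QuotientGroup.congr _ _ e ?_).symm.trans f⟩
  ext y
  constructor
  · rintro ⟨x, hx, rfl⟩
    exact (Subgroup.centerCongr e ⟨x, hx⟩).2
  · intro hy
    exact ⟨e.symm y, (Subgroup.centerCongr e.symm ⟨y, hy⟩).2, e.apply_symm_apply y⟩

theorem Ty.map {K : Subgroup G} (h : Ty Q K) (f : G →* G') (hf : Function.Injective f) : Ty Q (K.map f) :=
  h.of_equiv (K.equivMapOfInjective f hf)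

theorem Ty.card {K : Subgroup G} (h : Ty Q K) : Nat.card K = Nat.card Q * 3 := by
  obtain ⟨f⟩ := h.2
  rw [Subgroup.card_eq_card_quotient_mul_card_subgroup (Subgroup.center K), h.1, Nat.card_congr f.toEquiv]

theorem sq_mem_of_card {K N : Subgroup G} [Finite N] (hK : K ≤ N) (h : Nat.card N ≤ 2 * Nat.card K) :
    ∀ x ∈ N, x * x ∈ K := by
  intro x hx
  have h1 : Nat.card (K.subgroupOf N) = Nat.card K := Nat.card_congr (Subgroup.subgroupOfEquivOfLe hK).toEquiv
  have h2 := (K.subgroupOf N).index_mul_card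
  have h3 : 0 < Nat.card (K.subgroupOf N) := Nat.card_pos
  have h4 : (K.subgroupOf N).index ≠ 0 := Subgroup.index_ne_zero_of_finite
  have h5 : (K.subgroupOf N).index ≤ 2 := by
    rw [← h1, ← h2] at h
    exact Nat.le_of_mul_le_mul_right h h3
  have h6 : (K.subgroupOf N).index = 1 ∨ (K.subgroupOf N).index = 2 := by omega
  rcases h6 with h6 | h6
  · rw [Subgroup.index_eq_one] at h6
    have : (⟨x, hx⟩ * ⟨x, hx⟩ : N) ∈ K.subgroupOf N := h6 ▸ Subgroup.mem_top _
    exact this
  · exact Subgroup.mul_self_mem_of_index_two h6 ⟨x, hx⟩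

theorem mem_of_cube {K : Subgroup G} {x : G} {k : ℕ} (hx : x ^ 3 ^ k = 1) (h : x * x ∈ K) : x ∈ K := by
  obtain ⟨c, hc⟩ : Odd (3 ^ k) := Odd.pow (by decide)
  have : x = (x * x) ^ (c + 1) := by
    rw [← pow_two, ← pow_mul, show 2 * (c + 1) = 3 ^ k + 1 by omega, pow_succ, hx, one_mul]
  rw [this]
  exact K.pow_mem h _

theorem Ty.le [IsSimpleGroup Q] (hq : ∃ q : Q, q * q ≠ 1) {K K' : Subgroup G} (h : Ty Q K')
    (hs : ∀ x ∈ K', x * x ∈ K) : K' ≤ K := by
  obtain ⟨f⟩ := h.2
  have hs' : ∀ x : K', x * x ∈ K.subgroupOf K' := fun x => hs x x.2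
  have hn : (K.subgroupOf K').Normal := ⟨fun a ha x => by
    have : x * a * x⁻¹ = (x * a) * (x * a) * a⁻¹ * (x⁻¹ * x⁻¹) := by group
    rw [this]
    exact mul_mem (mul_mem (hs' _) (inv_mem ha)) (hs' _)⟩
  let φ : K' →* Q := f.toMonoidHom.comp (QuotientGroup.mk' _)
  have hφ : Function.Surjective φ := f.surjective.comp (QuotientGroup.mk'_surjective _)
  rcases (hn.map φ hφ).eq_bot_or_eq_top with h1 | h1
  · obtain ⟨q, hq⟩ := hq
    obtain ⟨x, rfl⟩ := hφ q
    refine absurd ?_ hq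
    rw [← map_mul, ← Subgroup.mem_bot, ← h1]
    exact ⟨_, hs' x, rfl⟩
  · intro x hx
    obtain ⟨y, hy, e⟩ : φ ⟨x, hx⟩ ∈ (K.subgroupOf K').map φ := h1 ▸ Subgroup.mem_top _
    have h2 : y⁻¹ * ⟨x, hx⟩ ∈ Subgroup.center K' := QuotientGroup.eq.1 (f.injective e)
    have h3 : (y⁻¹ * ⟨x, hx⟩) ^ 3 ^ 1 = 1 := by
      have := pow_card_eq_one' (x := (⟨_, h2⟩ : Subgroup.center K'))
      rw [h.1] at this
      exact congrArg Subtype.val this
    have h4 : (⟨x, hx⟩ : K') ∈ K.subgroupOf K' := by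
      have := mul_mem hy (mem_of_cube h3 (hs' _))
      rwa [mul_inv_cancel_left] at this
    exact h4

theorem ty_comap (hZ : Nat.card (Subgroup.center G) = 3) (hQ : Subgroup.center Q = ⊥)
    {H : Subgroup (G ⧸ Subgroup.center G)} (e : H ≃* Q) : Ty Q (H.comap (QuotientGroup.mk' (Subgroup.center G))) := by
  set K := H.comap (QuotientGroup.mk' (Subgroup.center G)) with hK
  let φ : K →* Q := e.toMonoidHom.comp
    (((QuotientGroup.mk' (Subgroup.center G)).comp K.subtype).codRestrict H fun x => x.2)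
  have hφ : Function.Surjective φ := fun q => by
    obtain ⟨x, hx⟩ := QuotientGroup.mk'_surjective _ (e.symm q).1
    refine ⟨⟨x, by rw [hK, Subgroup.mem_comap, hx]; exact (e.symm q).2⟩, ?_⟩
    exact (congrArg e (Subtype.ext hx)).trans (e.apply_symm_apply q)
  have h1 : φ.ker = (Subgroup.center G).subgroupOf K := by
    ext x
    rw [MonoidHom.mem_ker, Subgroup.mem_subgroupOf, ← QuotientGroup.eq_one_iff]
    exact e.map_eq_one_iff.trans Subtype.ext_iff
  have h2 : φ.ker = Subgroup.center K := by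
    apply le_antisymm
    · rw [h1]
      exact fun x hx => Subgroup.mem_center_iff.2 fun y => Subtype.ext (Subgroup.mem_center_iff.1 hx y)
    · intro x hx
      rw [MonoidHom.mem_ker, ← Subgroup.mem_bot, ← hQ, Subgroup.mem_center_iff]
      intro q
      obtain ⟨y, rfl⟩ := hφ q
      rw [← map_mul, ← map_mul, Subgroup.mem_center_iff.1 hx y]
  have h3 : Subgroup.center G ≤ K := fun x hx => by
    rw [hK, Subgroup.mem_comap, QuotientGroup.mk'_apply, (QuotientGroup.eq_one_iff x).2 hx]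
    exact H.one_mem
  refine ⟨?_, ⟨(QuotientGroup.quotientMulEquivOfEq h2.symm).trans
    (QuotientGroup.quotientKerEquivOfSurjective φ hφ)⟩⟩
  rw [← h2, h1, Nat.card_congr (Subgroup.subgroupOfEquivOfLe h3).toEquiv, hZ]

theorem center_eq_bot_of_card [IsSimpleGroup Q] (h : ¬ (Nat.card Q).Prime) : Subgroup.center Q = ⊥ := by
  refine (Subgroup.Normal.eq_bot_or_eq_top inferInstance).resolve_right fun h1 => h ?_
  let _ : CommGroup Q := Group.commGroupOfCenterEqTop h1
  exact IsSimpleGroup.prime_card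

/-- a `p`-subgroup lies in a conjugate of a subgroup of index prime to `p` -/
theorem exists_le_conj [Finite G] {p : ℕ} [Fact p.Prime] {P K : Subgroup G} (hP : IsPGroup p P)
    (hK : ¬ p ∣ K.index) : ∃ g : G, P ≤ K.map (MulAut.conj g).toMonoidHom := by
  obtain ⟨S, hS⟩ := hP.exists_le_sylow
  let R : Sylow p K := default
  have h1 : IsPGroup p (R.1.map K.subtype) := R.2.map _
  have h2 : ¬ p ∣ (R.1.map K.subtype).index := by
    rw [← Subgroup.relIndex_mul_index (Subgroup.map_subtype_le R.1), (Fact.out : p.Prime).dvd_mul, not_or]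
    refine ⟨?_, hK⟩
    rw [Subgroup.relIndex, Subgroup.subgroupOf, Subgroup.comap_map_eq_self_of_injective K.subtype_injective]
    exact R.not_dvd_index
  obtain ⟨g, hg⟩ := MulAction.exists_smul_eq G (h1.toSylow h2) S
  refine ⟨g, hS.trans ?_⟩
  rw [← hg]
  exact Subgroup.map_mono (Subgroup.map_subtype_le R.1)

/-- the members of an orbit have equally many neighbours in the orbit -/
theorem ncard_nbr {Ω A : Type*} [MulAction G Ω] {B : Ω → Ω → A} (hB : ∀ (g : G) x y, B (g • x) (g • y) = B x y)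
    (K : Subgroup G) (p : Ω) (a : A) {x : Ω} (hx : x ∈ MulAction.orbit K p) :
    {y | y ∈ MulAction.orbit K p ∧ B y x = a}.ncard = {y | y ∈ MulAction.orbit K p ∧ B y p = a}.ncard := by
  obtain ⟨k, rfl⟩ := hx
  rw [← Set.ncard_image_of_injective {y | y ∈ MulAction.orbit K p ∧ B y p = a} (MulAction.injective k)]
  congr 1
  ext y
  constructor
  · rintro ⟨h1, h2⟩
    refine ⟨k⁻¹ • y, ⟨MulAction.mem_orbit_of_mem_orbit _ h1, ?_⟩, smul_inv_smul k y⟩
    rw [← h2, ← hB k.1]
    exact congrArg (B · _) (smul_inv_smul k y)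
  · rintro ⟨z, ⟨h1, h2⟩, rfl⟩
    exact ⟨MulAction.mem_orbit_of_mem_orbit _ h1, (hB k.1 z p).trans h2⟩

end CfsgLib.U62K
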