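import Mathlib
import Cfsg.Agent.Lib.U62K.Data
import Cfsg.Agent.Lib.U62K.Gen

/-!
# The coded model of `SU₆(2)`: letters, the orbits of a Sylow `3`-subgroup on the isotropic vectors
-/

set_option autoImplicit false

namespace CfsgLib.U62K

open Cfsg Matrix CfsgLib.Comput CfsgLib.FiTool CfsgLib.FiLoc CfsgLib.FiType CfsgLib.Unitary CfsgLib.Transv3
open scoped Pointwise

variable {F : Type*} [Field F] [Fintype F]

/-- a field with four elements and a generator -/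
structure Ctx (ω : F) : Prop where
  card : Fintype.card F = 2 ^ 2
  om : ω + ω ^ 2 = 1

/-- the coordinates -/
def idx (i : ℕ) : Fin 6 := ⟨i % 6, Nat.mod_lt _ (by norm_num)⟩

theorem hE : Enum 6 idx := ⟨by decide, by decide⟩

variable {ω : F}

omit [Fintype F] in
theorem dec_eq (ω : F) (x : ℕ) : dec2 12 (e4 ω idx) x 0 = vecF ω 6 x := by
  funext c
  have h1 := dec2_e4 (ω := ω) hE x c.2
  have h2 : idx c = c := Fin.ext (Nat.mod_eq_of_lt c.2)
  have h3 : dig4 x c = dg x c := by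
    have e : dig4 x c = (x >>> (2 * c.1)) &&& (2 ^ 2 - 1) := rfl
    rw [e, dg_eq, Nat.and_two_pow_sub_one_eq_mod, Nat.shiftRight_eq_div_pow, pow_mul]
    norm_num
  rw [h2, h3] at h1
  exact h1

omit [Fintype F] in
theorem e4_eq (ω : F) {k : ℕ} (hk : k < 12) : e4 ω idx k = vecF ω 6 (1 <<< k) := by
  rw [← dec_eq, Nat.one_shiftLeft, dec2_two_pow _ hk]

theorem allLt_of_forall {p : ℕ → Bool} {n : ℕ} (h : ∀ i < n, p i = true) : allLt p n = true := by
  induction n with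
  | zero => rfl
  | succ n ih =>
    exact (band_eq_true (a := p n) (b := allLt p n)).2 ⟨h n (by omega), ih fun i hi => h i (by omega)⟩

namespace Ctx

variable (C : Ctx ω)
include C

theorem two : (2 : F) = 0 := two_zero C.card

theorem om' : ω ^ 2 + ω + 1 = 0 := by rw [add_comm (ω ^ 2), C.om, one_add_one_eq_two, C.two]

theorem vv (v : Fin 6 → F) : v + v = 0 := FiType.add_self_vec C.card v

theorem inj : ∀ i < 4096, ∀ j < 4096, vecF ω 6 i = vecF ω 6 j → i = j := fun i hi j hj h =>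
  dec2_e4_inj C.two C.om' hE i hi j hj ((dec_eq ω i).trans (h.trans (dec_eq ω j).symm))

theorem mem_sem {S x : ℕ} (hx : x < 4096) : vecF ω 6 x ∈ sem 4096 (vecF ω 6) S ↔ S.testBit x = true :=
  ⟨fun ⟨y, hy, h, e⟩ => C.inj y hy x hx e ▸ h, fun h => ⟨x, hx, h, rfl⟩⟩

theorem ncard (S : ℕ) : (sem 4096 (vecF ω 6) S).ncard = pop 4096 S := ncard_sem_of_inj C.inj (by norm_num) S

theorem herm (x y : ℕ) : hermForm 6 F 2 (vecF ω 6 x) (vecF ω 6 y) = el ω (hN x y 6) := (el_hN C.two C.om x y 6).symm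

theorem hN_eq {x y x' y' : ℕ} (h : hermForm 6 F 2 (vecF ω 6 x) (vecF ω 6 y) = hermForm 6 F 2 (vecF ω 6 x') (vecF ω 6 y')) :
    hN x y 6 = hN x' y' 6 := el_inj C.two C.om (hN_lt _ _ _) (hN_lt _ _ _) (by rw [← C.herm, ← C.herm, h])

theorem herm_zero {x y : ℕ} : hermForm 6 F 2 (vecF ω 6 x) (vecF ω 6 y) = 0 ↔ hN x y 6 = 0 := by
  rw [C.herm]
  exact ⟨el_eq_zero C.two C.om (hN_lt _ _ _), fun h => by rw [h, el_zero]⟩

theorem ne_zero {x : ℕ} (h0 : 0 < x) (hx : x < 4096) : vecF ω 6 x ≠ 0 := fun h =>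
  h0.ne' (C.inj x hx 0 (by norm_num) (h.trans (vecF_zero 6).symm))

theorem act2_tv {G : Type*} [Monoid G] [DistribMulAction G (Fin 6 → F)] {a : G} {c v : ℕ} (hc : c < 4)
    (ha : ∀ y, a • y = y + (el ω c * hermForm 6 F 2 y (vecF ω 6 v)) • vecF ω 6 v) {M : List ℕ}
    (h : tvOK c v M = true) : Act2 12 (e4 ω idx) M a := by
  obtain ⟨h1, h2⟩ := band_eq_true.1 h
  refine ⟨(ok2_sound h1).1, (ok2_sound h1).2, fun k hk => ?_⟩
  rw [dec_eq, e4_eq ω hk, ha, C.herm, ← el_m4 C.two C.om hc (hN_lt _ _ _), ← nth_eq_getD]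
  funext i
  have h3 := Nat.eq_of_beq_eq_true (allLt_sound (allLt_sound h2 k hk) i i.2)
  rw [Pi.add_apply, Pi.smul_apply, smul_eq_mul, vecF, vecF, vecF, ← h3,
    ← el_m4 C.two C.om (m4_lt _ _) (dg_lt _ _), ← el_xor C.two]
  rfl

theorem vs_ok {k : ℕ} (hk : k < 7) :
    vecF ω 6 (nth 0 vs k) ≠ 0 ∧ hermForm 6 F 2 (vecF ω 6 (nth 0 vs k)) (vecF ω 6 (nth 0 vs k)) = 0 := by
  have h := allLt_sound chk_gens k hk
  simp only [band_eq_true] at h
  exact ⟨C.ne_zero (lt_of_blt h.2.2.1) (lt_of_blt h.2.2.2), C.herm_zero.2 (Nat.eq_of_beq_eq_true h.2.1)⟩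

/-- the generating transvections -/
noncomputable def g0 (k : ℕ) : SU 6 F 2 := if h : k < 7 then uT C.card ⟨_, C.vs_ok h⟩ else 1

/-- the letters -/
noncomputable def g : ℕ → SU 6 F 2 := letters C.g0 defs

theorem actL0 : ActL (Act2 12 (e4 ω idx)) gens C.g0 := by
  refine ⟨fun m hm => ?_, fun m hm => dif_neg (not_lt.2 hm)⟩
  have h := (band_eq_true.1 (allLt_sound chk_gens m hm)).1
  rw [nth_eq_getD [], List.getD_eq_getElem _ _ hm] at h
  refine C.act2_tv (c := 1) (by norm_num) (fun y => ?_) h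
  rw [g0, dif_pos (show m < 7 from hm), uT_smul, el_one, one_mul]

theorem actL1 : ActL (Act2 12 (e4 ω idx)) ML C.g := staged2 C.vv (by norm_num) C.actL0 chk_defs

theorem wm : WM C.g stp (ones (12 + 1) 12) :=
  wm2 C.vv (by norm_num) C.actL1 (MonoidHom.id _) fun a h => Subtype.ext (Subtype.ext
    (eq_of_smul_e4 (ω := ω) hE fun k hk => (h k hk).trans (one_smul _ _).symm))

theorem evL_smul (l : List ℕ) (x : ℕ) : evL C.g l • vecF ω 6 x = vecF ω 6 (actL ps l x) := by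
  rw [← dec_eq, ← dec_eq]
  exact smul_dec2_actL C.vv (by norm_num) C.actL1 l x

theorem ev_smul (w x : ℕ) : ev C.g w • vecF ω 6 x = vecF ω 6 (act ps w x) := by
  rw [← evL_one]
  exact C.evL_smul [w] x

theorem smul_of_act2 {G : Type*} [Monoid G] [DistribMulAction G (Fin 6 → F)] {a : G} {M : List ℕ}
    (h : Act2 12 (e4 ω idx) M a) (x : ℕ) : a • vecF ω 6 x = vecF ω 6 (app2 (ones 12 1) M x) := by
  rw [← dec_eq, ← dec_eq]
  exact (dec2_app2 C.vv (by norm_num) h x Nat.one_pos).symm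

theorem g_smul {m : ℕ} (hm : m < 36) (x : ℕ) : C.g m • vecF ω 6 x = vecF ω 6 (ps m x) := by
  rw [ps, stepL_of_lt _ (show m < ML.length from hm)]
  exact C.smul_of_act2 (C.actL1.1 m hm) x

theorem smul_eq_of_mapsB {G : Type*} [Group G] [MulAction G (Fin 6 → F)] {a : G} {f : ℕ → ℕ}
    (hf : ∀ x, a • vecF ω 6 x = vecF ω 6 (f x)) {S S' : ℕ} (h : mapsB f S S' = true)
    (hc : pop 4096 S = pop 4096 S') : a • sem 4096 (vecF ω 6) S = sem 4096 (vecF ω 6) S' := by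
  refine Set.eq_of_subset_of_ncard_le ?_ (by rw [Set.ncard_smul_set, C.ncard, C.ncard, hc]) (sem_finite _ _ _)
  rintro _ ⟨_, ⟨x, hx, h1, rfl⟩, rfl⟩
  rw [mapsB, force_eq, force_eq] at h
  have h2 := bimp_sound (allI_zero h x hx) (by rw [tb_eq, h1])
  rw [force_eq, band_eq_true, tb_eq] at h2
  exact ⟨f x, lt_of_blt h2.1, h2.2, (hf x).symm⟩

/-- the `3`-subgroup -/
noncomputable def P : Subgroup (SU 6 F 2) := pcSub (lw C.g us) 7 0

theorem isPGroup : IsPGroup 3 C.P :=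
  (Ser.of_ok (fun _ h => (C.wm.words us).holds h) (by norm_num) (by norm_num) chk_ser).isPGroup 0

theorem us_mem (m : ℕ) : ev C.g (nth 0 us m) ∈ C.P := by
  have h1 : ∀ k < 7, C.g (7 + k) ∈ C.P := fun k hk => by
    have := mem_pcSub (lw C.g us) (Nat.zero_le k) hk
    have e : ∀ k < 7, nth 0 us k = 7 + k + 1 := by decide +kernel
    rwa [lw, e k hk, ev_letter _ (by omega)] at this
  have h2 : ∀ k < 7, C.g (14 + k) ∈ C.P := fun k hk => by
    have e : ∀ k < 7, defs.getD (14 + k) (2, 0) = (1, 7 + k + 1) := by decide +kernel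
    rw [g, letters_eq, e k hk, defVal, if_neg (by simp), if_pos rfl, ev_letter _ (by omega), if_pos (by omega)]
    exact inv_mem (h1 k hk)
  refine ev_nth_mem (fun u hu => ?_) m
  have e : ∀ u ∈ us, ∃ k < 7, u = 7 + k + 1 ∨ u = 14 + k + 1 := by decide
  obtain ⟨k, hk, rfl | rfl⟩ := e u hu
  · rw [ev_letter _ (by omega)]; exact h1 k hk
  · rw [ev_letter _ (by omega)]; exact h2 k hk

theorem walk (n x : ℕ) : ∃ k ∈ C.P, k • vecF ω 6 x = vecF ω 6 (iterN nxt n x) := by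
  induction n generalizing x with
  | zero => exact ⟨1, one_mem _, one_smul _ _⟩
  | succ n ih =>
    obtain ⟨k, hk, e⟩ := ih (nxt x)
    refine ⟨k * ev C.g _, mul_mem hk (C.us_mem (Nat.land (Nat.shiftRight Wn (Nat.mul 4 x)) 15)), ?_⟩
    rw [mul_smul, C.ev_smul, show iterN nxt (n + 1) x = iterN nxt n (nxt x) from force_eq _ _, ← e]
    rfl

theorem to_rep {j x : ℕ} (hj : j < 9) (hx : x < 4096) (h : (nth 0 Ts j).testBit x = true) :
    ∃ k ∈ C.P, k • vecF ω 6 x = vecF ω 6 (nth 0 reps j) := by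
  have h1 := allLt_sound chk_walk j hj
  rw [force_eq, force_eq] at h1
  rw [← Nat.eq_of_beq_eq_true (bimp_sound (allI_zero h1 x hx) (by rw [tb_eq, h]))]
  exact C.walk 5 x

omit C in
theorem _root_.CfsgLib.U62K.testBit_uni (m k x : ℕ) :
    (uni m k).testBit x = true ↔ ∃ j < k, m.testBit j = true ∧ (nth 0 Ts j).testBit x = true := by
  induction k with
  | zero => simp [show uni m 0 = 0 from rfl]
  | succ k ih =>
    rw [show uni m (k + 1) = uni m k ||| (Bool.rec 0 (nth 0 Ts k) (tb m k) : ℕ) from rfl, Nat.testBit_or,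
      Bool.or_eq_true, ih, tb_eq, Nat.exists_lt_succ_right]
    cases m.testBit k <;> simp

/-- the invariant sets of isotropic vectors -/
theorem exists_mask {A : Set (Fin 6 → F)} (h0 : ∀ v ∈ A, v ≠ 0 ∧ hermForm 6 F 2 v v = 0)
    (hA : ∀ k ∈ C.P, ∀ v ∈ A, k • v ∈ A) :
    ∃ m < 512, A = sem 4096 (vecF ω 6) (uni m 9) ∧ ∀ j < 9, m.testBit j = true ↔ vecF ω 6 (nth 0 reps j) ∈ A := by
  classical
  have h1 : ∀ j < 9, (Nat.ofBits fun j : Fin 9 => decide (vecF ω 6 (nth 0 reps j) ∈ A)).testBit j = true ↔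
      vecF ω 6 (nth 0 reps j) ∈ A := fun j hj => by rw [Nat.testBit_ofBits_lt _ j hj, decide_eq_true_iff]
  refine ⟨_, Nat.ofBits_lt_two_pow _, ?_, h1⟩
  ext v
  constructor
  · intro hv
    obtain ⟨x, hx, rfl⟩ := vecF_surj C.card C.om v
    have h2 := chk_cover
    rw [force_eq] at h2
    rcases FiType.bor_eq_true.1 (bimp_sound (allI_zero h2 x hx)
      (by rw [C.herm_zero.1 (h0 _ hv).2]; rfl)) with h3 | h3
    · exact absurd (by rw [Nat.eq_of_beq_eq_true h3, vecF_zero]) (h0 _ hv).1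
    · rw [tb_eq, testBit_uni] at h3
      obtain ⟨j, hj, -, h4⟩ := h3
      obtain ⟨k, hk, e⟩ := C.to_rep hj hx h4
      exact ⟨x, hx, (testBit_uni _ _ _).2 ⟨j, hj, (h1 j hj).2 (e ▸ hA k hk _ hv), h4⟩, rfl⟩
  · rintro ⟨x, hx, h2, rfl⟩
    obtain ⟨j, hj, h3, h4⟩ := (testBit_uni _ _ _).1 h2
    obtain ⟨k, hk, e⟩ := C.to_rep hj hx h4
    have := hA _ (inv_mem hk) _ ((h1 j hj).1 h3)
    rwa [← e, inv_smul_smul] at this

theorem p_iso : vecF ω 6 65 ≠ 0 ∧ hermForm 6 F 2 (vecF ω 6 65) (vecF ω 6 65) = 0 :=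
  ⟨C.ne_zero (by norm_num) (by norm_num), C.herm_zero.2 (chk_rep 2 (by norm_num)).2.2.1⟩

theorem orbit_mask {K : Subgroup (SU 6 F 2)} (hK : C.P ≤ K) :
    ∃ m < 512, MulAction.orbit K (vecF ω 6 65) = sem 4096 (vecF ω 6) (uni m 9) ∧
      ∀ j < 9, m.testBit j = true ↔ vecF ω 6 (nth 0 reps j) ∈ MulAction.orbit K (vecF ω 6 65) := by
  refine C.exists_mask ?_ fun k hk v hv => MulAction.mem_orbit_of_mem_orbit (⟨k, hK hk⟩ : K) hv
  rintro _ ⟨k, rfl⟩
  exact ⟨(smul_ne_zero_iff_ne k).2 C.p_iso.1, (herm_su_smul k.1 _ _).trans C.p_iso.2⟩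

theorem card_SU6 : Nat.card (SU 6 F 2) = 27590492160 := by
  have := card_SU (n := 6) C.card (by norm_num)
  norm_num [Finset.prod_range_succ, Nat.even_iff] at this
  omega

theorem ncard_top : (MulAction.orbit (⊤ : Subgroup (SU 6 F 2)) (vecF ω 6 65)).ncard = 2079 := by
  obtain ⟨m, hm, e, h⟩ := C.orbit_mask (K := ⊤) le_top
  have h1 : ∀ j < 9, m.testBit j = true := fun j hj => by
    obtain ⟨h2, -, h3, rfl | h4⟩ := chk_rep j hj
    · exact (h 2 hj).2 (MulAction.mem_orbit_self _)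
    · have h5 : hermForm 6 F 2 (vecF ω 6 65) (vecF ω 6 (nth 0 reps j)) = 1 := by rw [C.herm, h4, el_one]
      have h6 : hermForm 6 F 2 (vecF ω 6 (nth 0 reps j)) (vecF ω 6 65) = 1 := by
        rw [← herm_conj C.card, h5, one_pow]
      have h7 : hermForm 6 F 2 (vecF ω 6 65) (vecF ω 6 65 + vecF ω 6 (nth 0 reps j)) = 1 := by
        rw [herm_add_right C.card, C.p_iso.2, h5, zero_add]
      have h8 : vecF ω 6 65 + vecF ω 6 (nth 0 reps j) ≠ 0 := fun h8 => by
        rw [h8, herm_zero_right C.card] at h7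
        exact zero_ne_one h7
      have h9 : hermForm 6 F 2 (vecF ω 6 65 + vecF ω 6 (nth 0 reps j)) (vecF ω 6 65 + vecF ω 6 (nth 0 reps j)) = 0 := by
        rw [herm_add_left, h7, herm_add_right C.card, h6, C.herm_zero.2 h3, add_zero, one_add_one_eq_two, C.two]
      refine (h j hj).2 ⟨⟨uT C.card ⟨_, h8, h9⟩, trivial⟩, (uT_smul C.card _ _).trans ?_⟩
      rw [h7, one_smul, ← add_assoc, C.vv, zero_add]
  have h2 : m = 511 := Nat.eq_of_testBit_eq fun j => by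
    by_cases hj : j < 9
    · rw [h1 j hj, show 511 = 2 ^ 9 - 1 from rfl, Nat.testBit_two_pow_sub_one, decide_eq_true hj]
    · rw [Nat.testBit_lt_two_pow (hm.trans_le (Nat.pow_le_pow_right (n := 2) (by norm_num) (not_lt.1 hj))),
        show 511 = 2 ^ 9 - 1 from rfl, Nat.testBit_two_pow_sub_one, decide_eq_false hj]
  rw [e, h2, C.ncard, chk_pop.2.2.2.1]

/-- the orbit of a subgroup of order `|3·U₄(3)|` -/
theorem orbit_eq {K : Subgroup (SU 6 F 2)} (hK : C.P ≤ K) (hc : Nat.card K = 9797760) :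
    ∃ m, (m = 71 ∨ m = 135 ∨ m = 263) ∧ MulAction.orbit K (vecF ω 6 65) = sem 4096 (vecF ω 6) (uni m 9) := by
  obtain ⟨m, hm, e, h⟩ := C.orbit_mask hK
  refine ⟨m, ?_, e⟩
  have h1 := allI_zero chk_masks m hm
  rw [force_eq, force_eq, band_eq_true, ← C.ncard, ← e] at h1
  have h2 := card_eq_ncard_orbit_mul K (vecF ω 6 65)
  have h3 := card_eq_ncard_orbit_mul (⊤ : Subgroup (SU 6 F 2)) (vecF ω 6 65)
  rw [C.ncard_top, Subgroup.card_top, C.card_SU6, top_inf_eq] at h3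
  have h4 : Nat.card (K ⊓ MulAction.stabilizer (SU 6 F 2) (vecF ω 6 65) : Subgroup (SU 6 F 2)) ∣
      Nat.card (MulAction.stabilizer (SU 6 F 2) (vecF ω 6 65)) := Subgroup.card_dvd_of_le inf_le_right
  rw [hc] at h2
  have h5 : 7 ∣ (MulAction.orbit K (vecF ω 6 65)).ncard := by
    refine ((by norm_num : Nat.Prime 7).dvd_mul.1 (by rw [← h2]; norm_num)).resolve_right fun h6 => ?_
    have := h6.trans h4
    omega
  have h6 : ∀ i < 9, {y | y ∈ MulAction.orbit K (vecF ω 6 65) ∧ hermForm 6 F 2 y (vecF ω 6 (nth 0 reps i)) = 0} =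
      sem 4096 (vecF ω 6) (uni m 9 &&& nth 0 Zs i) := fun i hi => by
    have h7 := chk_Z
    rw [force_eq] at h7
    have h8 := allLt_sound h7 i hi
    rw [force_eq, force_eq] at h8
    rw [sem_land' C.inj, e]
    ext y
    refine and_congr_right ?_
    rintro ⟨x, hx, h9, rfl⟩
    have h10 : (uni 511 9).testBit x = true := by
      obtain ⟨j, hj, -, h11⟩ := (testBit_uni _ _ _).1 h9
      exact (testBit_uni _ _ _).2 ⟨j, hj, (by decide : ∀ j < 9, Nat.testBit 511 j = true) j hj, h11⟩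
    have h11 := bimp_sound (allI_zero h8 x hx) (by rw [tb_eq, h10])
    rw [C.herm_zero, C.mem_sem hx, ← tb_eq, ← Nat.beq_eq]
    revert h11
    cases Nat.beq (hN x (nth 0 reps i) 6) 0 <;> simp
  have h7 := bimp_sound (bimp_sound (bimp_sound (bimp_sound h1.2
    (by rw [tb_eq]; exact (h 2 (by norm_num)).2 (MulAction.mem_orbit_self _)))
    (Nat.beq_eq.symm ▸ Nat.mod_eq_zero_of_dvd h5)) (Nat.beq_eq.symm ▸ Nat.mod_eq_zero_of_dvd ⟨_, h2⟩)) ?_
  · simpa only [FiType.bor_eq_true, Nat.beq_eq] using h7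
  · refine allLt_of_forall fun i hi => ?_
    cases hb : tb m i
    · rfl
    · change Nat.beq _ _ = true
      rw [Nat.beq_eq, ← C.ncard, ← C.ncard]
      refine (congrArg Set.ncard (h6 i hi)).symm.trans (Eq.trans ?_ (congrArg Set.ncard (h6 2 (by norm_num))))
      exact ncard_nbr herm_su_smul K _ 0 ((h i hi).1 (tb_eq m i ▸ hb))

theorem mem_of_ncard {A : Set (Fin 6 → F)} (h0 : ∀ v ∈ A, v ≠ 0 ∧ hermForm 6 F 2 v v = 0)
    (hA : ∀ k ∈ C.P, ∀ v ∈ A, k • v ∈ A) (hc : A.ncard = 378) : vecF ω 6 65 ∈ A := by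
  obtain ⟨m, hm, e, h⟩ := C.exists_mask h0 hA
  have h1 := allI_zero chk_masks m hm
  rw [force_eq, force_eq, band_eq_true, ← C.ncard, ← e, hc] at h1
  exact (h 2 (by norm_num)).1 (tb_eq m 2 ▸ bimp_sound h1.1 rfl)

end Ctx

end CfsgLib.U62K
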