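import Mathlib
import Cfsg.Agent.Lib.U62K.Model
import Cfsg.Agent.Lib.Comput.CentExt2

/-!
# The three classes of subgroups `3·U₄(3)` of `SU₆(2)`
-/

set_option autoImplicit false

namespace CfsgLib.U62K

open Cfsg Matrix CfsgLib.Comput CfsgLib.FiTool CfsgLib.FiLoc CfsgLib.FiType CfsgLib.Unitary CfsgLib.Transv3
open scoped Pointwise

variable {F : Type*} [Field F] [Fintype F] {ω : F}

omit [Fintype F] in
theorem gu_smul_def (g : GU 6 F 2) (v : Fin 6 → F) :
    g • v = ((g : GL (Fin 6) F) : Matrix (Fin 6) (Fin 6) F) *ᵥ v := rfl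

omit [Fintype F] in
theorem herm_gu_smul (g : GU 6 F 2) (u v : Fin 6 → F) : hermForm 6 F 2 (g • u) (g • v) = hermForm 6 F 2 u v := g.2 u v

omit [Fintype F] in
theorem suToGU_smul (g : SU 6 F 2) (v : Fin 6 → F) : suToGU 6 F 2 g • v = g • v := rfl

/-- conjugation by a member of the general unitary group -/
noncomputable def cj (h : GU 6 F 2) : SU 6 F 2 →* SU 6 F 2 :=
  (MonoidHom.ofInjective suToGU_injective).symm.toMonoidHom.comp
    (((MulAut.conj h).toMonoidHom.comp (suToGU 6 F 2)).codRestrict _ fun x => by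
      rw [range_suToGU]
      exact (MonoidHom.normal_ker _).conj_mem _ (range_suToGU (n := 6) (F := F) (q := 2) ▸ ⟨x, rfl⟩) h)

omit [Fintype F] in
theorem suToGU_cj (h : GU 6 F 2) (x : SU 6 F 2) : suToGU 6 F 2 (cj h x) = h * suToGU 6 F 2 x * h⁻¹ :=
  MonoidHom.apply_ofInjective_symm suToGU_injective _

omit [Fintype F] in
theorem cj_cj (h h' : GU 6 F 2) (x : SU 6 F 2) : cj h (cj h' x) = cj (h * h') x :=
  suToGU_injective (by simp only [suToGU_cj]; group)

omit [Fintype F] in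
theorem cj_one (x : SU 6 F 2) : cj 1 x = x := suToGU_injective (by simp only [suToGU_cj]; group)

omit [Fintype F] in
theorem cj_su (g x : SU 6 F 2) : cj (suToGU 6 F 2 g) x = g * x * g⁻¹ :=
  suToGU_injective (by simp only [suToGU_cj, map_mul, map_inv])

omit [Fintype F] in
theorem cj_injective (h : GU 6 F 2) : Function.Injective (cj h) := fun x y e => by
  rw [← cj_one x, ← cj_one y, ← inv_mul_cancel h, ← cj_cj, ← cj_cj, e]

omit [Fintype F] in
theorem map_cj_cj (h h' : GU 6 F 2) (K : Subgroup (SU 6 F 2)) : (K.map (cj h')).map (cj h) = K.map (cj (h * h')) := by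
  rw [Subgroup.map_map]
  exact congrArg K.map (MonoidHom.ext (cj_cj h h'))

omit [Fintype F] in
theorem map_cj_one (K : Subgroup (SU 6 F 2)) : K.map (cj 1) = K := by
  rw [show cj (1 : GU 6 F 2) = MonoidHom.id _ from MonoidHom.ext cj_one, Subgroup.map_id]

omit [Fintype F] in
theorem map_conj_eq (g : SU 6 F 2) (K : Subgroup (SU 6 F 2)) :
    K.map (MulAut.conj g).toMonoidHom = K.map (cj (suToGU 6 F 2 g)) :=
  congrArg K.map (MonoidHom.ext fun x => (cj_su g x).symm)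

omit [Fintype F] in
theorem cj_smul (h : GU 6 F 2) (x : SU 6 F 2) (v : Fin 6 → F) : cj h x • v = h • x • h⁻¹ • v := by
  rw [← suToGU_smul, suToGU_cj, mul_smul, mul_smul, suToGU_smul]

theorem candOK_sound (C : Ctx ω) {H : Subgroup (GU 6 F 2)} {S : ℕ}
    (hH : ∀ x ∈ H, ∀ v ∈ sem 4096 (vecF ω 6) S, x • v ∈ sem 4096 (vecF ω 6) S) {l : CL} {prev : List ℕ}
    (h : candOK S l prev = true) : Cand 4096 (vecF ω 6) H l prev := by
  induction l generalizing prev with
  | nil => trivial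
  | cons c l ih =>
    obtain ⟨h1, h2⟩ := band_eq_true.1 h
    obtain ⟨h3, h4⟩ := band_eq_true.1 h1
    obtain ⟨h5, h6⟩ := band_eq_true.1 h3
    refine ⟨fun x hx hf => ?_, ih h2⟩
    obtain ⟨y, hy, h7, e⟩ := hH x hx _ ⟨c.1, lt_of_blt h5, tb_eq S _ ▸ h6, rfl⟩
    rw [force_eq] at h4
    refine ⟨y, hy, tb_eq c.2 y ▸ bimp_sound (bimp_sound (allI_zero h4 y hy) (tb_eq S y ▸ h7)) ?_, e⟩
    have h8 : ∀ b ∈ prev, Nat.beq (hN y b 6) (hN c.1 b 6) = true := fun b hb => by
      rw [Nat.beq_eq]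
      refine C.hN_eq ?_
      rw [e, ← herm_gu_smul x (vecF ω 6 c.1), mem_ptStab.1 hf b hb]
    clear h h1 h2 h4 hf
    induction prev with
    | nil => rfl
    | cons b prev ih' =>
      exact band_eq_true.2 ⟨h8 b List.mem_cons_self, ih' fun b hb => h8 b (List.mem_cons_of_mem _ hb)⟩

namespace Ctx

variable (C : Ctx ω)
include C

/-- the stabiliser of the set of roots -/
noncomputable def N (_ : Ctx ω) : Subgroup (GU 6 F 2) :=
  MulAction.stabilizer (GU 6 F 2) (sem 4096 (vecF ω 6) (uni 71 9))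

theorem card_N : Nat.card C.N ≤ 19595520 := by
  have h1 := chk_cand
  rw [force_eq] at h1
  have h2 := (candOK_sound C (H := C.N) (fun x hx v hv => by
    rw [← MulAction.mem_stabilizer_iff.1 hx]; exact Set.smul_mem_smul_set hv) h1).card_le C.inj (by norm_num)
  have h3 : C.N ⊓ ptStab (GU 6 F 2) (vecF ω 6) (fin cs []) = ⊥ := by
    rw [eq_bot_iff]
    rintro x ⟨-, hx⟩
    refine Subtype.ext (Units.ext (CfsgLib.Forms.matrix_ext_mulVec fun v => ?_))
    change x • v = (1 : Matrix (Fin 6) (Fin 6) F) *ᵥ v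
    obtain ⟨y, hy, e⟩ := vecF_surj C.card C.om (x • v - v)
    have h4 : ∀ b ∈ [515, 193, 259, 2049, 1407, 5], Nat.beq (hN y b 6) 0 = true := fun b hb => by
      rw [Nat.beq_eq, ← C.herm_zero, e, herm_sub_left, ← herm_gu_smul x v,
        mem_ptStab.1 hx b (List.mem_append_left _ (List.mem_reverse.2 hb)), sub_self]
    simp only [List.forall_mem_cons] at h4
    have h5 := bimp_sound (allI_zero chk_span y hy) (by
      simp only [allL, h4])
    rw [Nat.eq_of_beq_eq_true h5, vecF_zero] at e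
    rw [one_mulVec, ← sub_eq_zero, ← e]
  rwa [h3, chk_val, Subgroup.card_bot, mul_one] at h2

theorem g_mem (m : ℕ) : C.g m ∈ C.N.comap (suToGU 6 F 2) := by
  refine letters_mem (fun k => ?_) defs m
  by_cases hk : k < 7
  · have e : ∀ k < 7, defs.getD k (2, 0) = (0, k) := by decide +kernel
    rw [← letters_gen C.g0 (e k hk)]
    exact C.smul_eq_of_mapsB (a := suToGU 6 F 2 (C.g k)) (C.g_smul (by omega)) (allLt_sound chk_inv k hk) rfl
  · rw [g0, dif_neg hk]
    exact one_mem _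

theorem P_le : C.P ≤ C.N.comap (suToGU 6 F 2) := pcSub_le.2 fun _ _ _ => ev_mem_of_all C.g_mem _

theorem card_center : Nat.card (Subgroup.center (SU 6 F 2)) = 3 := card_center_SU C.card (by norm_num)

theorem z_mem : C.g 35 ∈ Subgroup.center (SU 6 F 2) := by
  refine (mem_center_SU_iff C.card (by norm_num)).2 ⟨ω, eq_of_smul_e4 (ω := ω) hE ?_⟩
  have h := act2_e4 C.two C.om' hE (A := ω • (1 : Matrix (Fin 6) (Fin 6) F)) (fun i hi j hj => by
    by_cases hij : i = j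
    · simp [hij]
    · have : idx i ≠ idx j := fun e => hij (hE.inj i hi j hj e)
      simp [hij, this]) chk_z
  exact fun k hk => ((C.actL1.1 35 (by decide)).2.2 k hk).trans (h.2.2 k hk).symm

theorem center_le : Subgroup.center (SU 6 F 2) ≤ C.N.comap (suToGU 6 F 2) := by
  have h1 : C.g 35 ≠ 1 := fun h => by
    have := C.g_smul (m := 35) (by norm_num) 1
    rw [h, one_smul] at this
    exact absurd (C.inj _ (by norm_num) _ (by decide +kernel) this) (by decide +kernel)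
  have : Fact (Nat.Prime 3) := ⟨by norm_num⟩
  intro x hx
  obtain ⟨k, hk⟩ := mem_zpowers_of_prime_card (G := Subgroup.center (SU 6 F 2)) C.card_center
    (g := ⟨_, C.z_mem⟩) (g' := ⟨x, hx⟩) fun h => h1 (congrArg Subtype.val h)
  rw [← show C.g 35 ^ k = x from congrArg Subtype.val hk]
  exact zpow_mem (C.g_mem 35) k

/-- the generators of `U₄(3)` -/
noncomputable def gb (k : ℕ) : PSU 6 F 2 := QuotientGroup.mk' _ (C.g (2 * k + 21))

theorem ev_gb {r : List ℕ} (hr : ∀ x ∈ r, x < 14) :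
    CosetEnum.ev C.gb r = evL (fun m => QuotientGroup.mk' (Subgroup.center (SU 6 F 2)) (C.g m)) (r.map (· + 22)) := by
  induction r with
  | nil => rfl
  | cons x r ih =>
    have hx := hr x List.mem_cons_self
    rw [CosetEnum.ev_cons, List.map_cons, evL_cons, ih fun y hy => hr y (List.mem_cons_of_mem _ hy),
      ev_letter _ (by omega : x + 21 < 255)]
    congr 1
    obtain ⟨k, rfl | rfl⟩ := Nat.even_or_odd' x
    · exact CosetEnum.evL_two_mul _ _
    · have h : evL C.g [2 * k + 22, 2 * k + 23] = evL C.g [] := C.wm.holds (allLt_sound chk_invs k (by omega))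
      rw [evL_two, ev_letter _ (by omega : 2 * k + 21 < 255), ev_letter _ (by omega : 2 * k + 22 < 255)] at h
      rw [CosetEnum.evL_two_mul_add_one, gb, ← map_inv, inv_eq_of_mul_eq_one_right h]

theorem gb_rel : ∀ r ∈ [6, 6] :: [8, 8] :: U43.rels, CosetEnum.ev C.gb r = 1 := fun r hr => by
  obtain ⟨h1, h2⟩ := band_eq_true.1 (allL_sound chk_rels r hr)
  obtain ⟨z, hz, e⟩ := C.wm.holdsZ h2
  rw [C.ev_gb fun x hx => lt_of_blt (allL_sound h1 x hx), ← map_evL, e, evL_nil, mul_one]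
  refine (QuotientGroup.eq_one_iff _).2 ?_
  simp only [List.mem_cons, List.not_mem_nil, or_false] at hz
  rcases hz with rfl | rfl | rfl
  · exact one_mem _
  · rw [ev_letter _ (by norm_num : 35 < 255)]
    exact C.z_mem
  · rw [show 9252 = 36 * 256 + 36 from rfl, ev_mul_add _ _ (by norm_num), ev_letter _ (by norm_num : 35 < 255)]
    exact mul_mem C.z_mem C.z_mem

theorem gb_ne : C.gb 0 ≠ 1 := fun h => by
  have h1 := Subgroup.mem_center_iff.1 ((QuotientGroup.eq_one_iff _).1 h) (C.g 1)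
  refine chk_ne.2.2 (C.inj _ chk_ne.1 _ chk_ne.2.1 ?_)
  rw [← C.evL_smul, ← C.evL_smul, evL_two, evL_two, ev_letter _ (by norm_num : 1 < 255),
    ev_letter _ (by norm_num : 21 < 255), h1]

/-- the first subgroup -/
noncomputable def K0 : Subgroup (SU 6 F 2) := (CosetEnum.gen C.gb U43.top).comap (QuotientGroup.mk' _)

theorem K0_le : C.K0 ≤ C.N.comap (suToGU 6 F 2) := by
  have h : CosetEnum.gen C.gb U43.top ≤ (C.N.comap (suToGU 6 F 2)).map (QuotientGroup.mk' _) :=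
    CosetEnum.gen_le.2 fun y hy => by
      rw [C.ev_gb ((by decide : ∀ y ∈ U43.top, ∀ x ∈ y, x < 14) y hy), ← map_evL]
      exact ⟨_, evL_mem_of_all C.g_mem _, rfl⟩
  refine (Subgroup.comap_mono h).trans ?_
  rw [Subgroup.comap_map_eq, QuotientGroup.ker_mk', sup_le_iff]
  exact ⟨le_rfl, C.center_le⟩

theorem ty_K0 : Ty U43.PM C.K0 := by
  obtain ⟨e⟩ := U43.nonempty_equiv_PM (CosetEnum.invOk_of_sqW fun w hw => C.gb_rel w (by revert w; decide))
    (fun r hr => C.gb_rel r (List.mem_cons_of_mem _ (List.mem_cons_of_mem _ hr))) C.gb_ne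
  exact ty_comap C.card_center (center_eq_bot_of_card (by rw [U43.card_PM]; norm_num)) e.symm

omit C in
theorem _root_.CfsgLib.U62K.card_of_ty {G : Type*} [Group G] {K : Subgroup G} (h : Ty U43.PM K) :
    Nat.card K = 9797760 := by rw [h.card, U43.card_PM]

theorem sq_mem {h : GU 6 F 2} (hh : h ∈ C.N) : h * h ∈ C.K0.map (suToGU 6 F 2) := by
  refine sq_mem_of_card (Subgroup.map_le_iff_le_comap.2 C.K0_le) (C.card_N.trans ?_) h hh
  rw [card_of_ty (C.ty_K0.map _ suToGU_injective)]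

theorem sq_mem' {x : SU 6 F 2} (hx : x ∈ C.N.comap (suToGU 6 F 2)) : x * x ∈ C.K0 := by
  have := C.sq_mem hx
  rwa [← map_mul, Subgroup.mem_map_iff_mem suToGU_injective] at this

theorem eq_K0 {K : Subgroup (SU 6 F 2)} (h : Ty U43.PM K) (hK : K ≤ C.N.comap (suToGU 6 F 2)) : K = C.K0 := by
  refine Subgroup.eq_of_le_of_card_ge (h.le ?_ fun x hx => C.sq_mem' (hK hx))
    (by rw [card_of_ty h, card_of_ty C.ty_K0])
  have : Fact (Nat.Prime 3) := ⟨by norm_num⟩
  obtain ⟨q, hq⟩ := exists_prime_orderOf_dvd_card' (G := U43.PM) 3 (by rw [U43.card_PM]; norm_num)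
  refine ⟨q, fun h => ?_⟩
  have := orderOf_dvd_of_pow_eq_one ((pow_two q).trans h)
  rw [hq] at this
  omega

theorem P_le_K0 : C.P ≤ C.K0 := fun x hx => by
  obtain ⟨k, hk⟩ := C.isPGroup ⟨x, hx⟩
  exact mem_of_cube (congrArg Subtype.val hk) (C.sq_mem' (C.P_le hx))

theorem orbit_K0 {A : Set (Fin 6 → F)} (hp : vecF ω 6 65 ∈ A) (hA : ∀ k ∈ C.K0, ∀ v ∈ A, k • v ∈ A)
    (hc : A.ncard = 378) : MulAction.orbit C.K0 (vecF ω 6 65) = A := by
  obtain ⟨m, hm, e⟩ := C.orbit_eq C.P_le_K0 (card_of_ty C.ty_K0)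
  refine Set.eq_of_subset_of_ncard_le ?_ ?_ (Set.toFinite _)
  · rintro _ ⟨k, rfl⟩
    exact hA k k.2 _ hp
  · rw [hc, e, C.ncard]
    rcases hm with rfl | rfl | rfl
    exacts [chk_pop.1.ge, chk_pop.2.1.ge, chk_pop.2.2.1.ge]

theorem orbit_K0' : MulAction.orbit C.K0 (vecF ω 6 65) = sem 4096 (vecF ω 6) (uni 71 9) :=
  C.orbit_K0 ⟨65, by norm_num, tb_eq _ _ ▸ chk_pop.2.2.2.2, rfl⟩ (fun k hk v hv => by
    rw [← MulAction.mem_stabilizer_iff.1 (C.K0_le hk)]; exact Set.smul_mem_smul_set hv) (by rw [C.ncard, chk_pop.1])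

theorem det_eq_one {h : GU 6 F 2} (hh : C.K0.map (cj h) = C.K0) : detGU 6 F 2 h = 1 := by
  have h1 : ∀ k ∈ C.K0, ∀ v ∈ h • MulAction.orbit C.K0 (vecF ω 6 65),
      k • v ∈ h • MulAction.orbit C.K0 (vecF ω 6 65) := by
    rintro k hk _ ⟨v, hv, rfl⟩
    obtain ⟨k', hk', rfl⟩ : k ∈ C.K0.map (cj h) := hh.symm ▸ hk
    refine ⟨k' • v, MulAction.mem_orbit_of_mem_orbit (⟨k', hk'⟩ : C.K0) hv, ?_⟩
    change h • k' • v = cj h k' • h • v
    rw [cj_smul, inv_smul_smul]
  have h2 : (h • MulAction.orbit C.K0 (vecF ω 6 65)).ncard = 378 := by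
    rw [Set.ncard_smul_set, C.orbit_K0', C.ncard, chk_pop.1]
  have h3 := C.orbit_K0 (C.mem_of_ncard ?_ (fun k hk => h1 k (C.P_le_K0 hk)) h2) h1 h2
  · rw [C.orbit_K0'] at h3
    obtain ⟨x, -, e⟩ := C.sq_mem (h := h) h3.symm
    have h4 : detGU 6 F 2 (h * h) = 1 := by
      rw [← MonoidHom.mem_ker, ← range_suToGU]
      exact ⟨x, e⟩
    have h5 : detGU 6 F 2 h ^ (2 + 1) = 1 :=
      Units.ext ((mem_range_detGU C.card (by norm_num)).1 ⟨h, rfl⟩)
    rwa [pow_succ, pow_two, ← map_mul, h4, one_mul] at h5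
  · rintro _ ⟨_, ⟨k, rfl⟩, rfl⟩
    exact ⟨(smul_ne_zero_iff_ne h).2 ((smul_ne_zero_iff_ne k).2 C.p_iso.1),
      (herm_gu_smul h _ _).trans ((herm_su_smul k.1 _ _).trans C.p_iso.2)⟩

theorem herm_one : hermForm 6 F 2 (vecF ω 6 1) (vecF ω 6 1) = 1 := by
  rw [C.herm, show hN 1 1 6 = 1 by decide +kernel, el_one]

/-- a diagonal matrix of determinant `ω` -/
noncomputable def δ : GU 6 F 2 := mkGU C.card (unitaryTransvection 6 2 (vecF ω 6 1) (el ω 3)) (trans_pres C.card (by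
  rw [C.herm_one, el_three]
  linear_combination (ω + 3) * C.om' + ω * C.two))

theorem det_δ : (detGU 6 F 2 C.δ : F) = ω := by
  rw [detGU, MonoidHom.comp_apply, GeneralLinearGroup.val_det_apply, Subgroup.coe_subtype, δ, coe_mkGU, det_trans,
    C.herm_one, el_three]
  linear_combination C.two

theorem δ_smul (x : ℕ) : C.δ • vecF ω 6 x = vecF ω 6 (app2 (ones 12 1) MD x) :=
  C.smul_of_act2 (C.act2_tv (by norm_num) (fun y => by rw [gu_smul_def, δ, coe_mkGU, trans_mulVec]) chk_MD) x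

theorem δ_sem : C.δ • sem 4096 (vecF ω 6) (uni 71 9) = sem 4096 (vecF ω 6) (uni 135 9) ∧
    C.δ ^ 2 • sem 4096 (vecF ω 6) (uni 71 9) = sem 4096 (vecF ω 6) (uni 263 9) := by
  obtain ⟨h1, h2⟩ := band_eq_true.1 chk_dl
  have h3 := C.smul_eq_of_mapsB C.δ_smul h1 (chk_pop.1.trans chk_pop.2.1.symm)
  refine ⟨h3, ?_⟩
  rw [pow_two, mul_smul, h3, C.smul_eq_of_mapsB C.δ_smul h2 (chk_pop.2.1.trans chk_pop.2.2.1.symm)]

theorem eq_of_orbit {K : Subgroup (SU 6 F 2)} (h : Ty U43.PM K) {d : GU 6 F 2}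
    (e : MulAction.orbit K (vecF ω 6 65) = d • sem 4096 (vecF ω 6) (uni 71 9)) : K = C.K0.map (cj d) := by
  rw [← C.eq_K0 (h.map _ (cj_injective d⁻¹)), map_cj_cj, mul_inv_cancel, map_cj_one]
  rintro _ ⟨k, hk, rfl⟩
  change suToGU 6 F 2 (cj d⁻¹ k) • sem 4096 (vecF ω 6) (uni 71 9) = _
  rw [suToGU_cj, inv_inv, mul_smul, mul_smul, ← e, inv_smul_eq_iff, ← e]
  exact MulAction.smul_orbit (⟨k, hk⟩ : K) _

theorem classify {K : Subgroup (SU 6 F 2)} (h : Ty U43.PM K) : ∃ g : SU 6 F 2,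
    K.map (MulAut.conj g).toMonoidHom = C.K0.map (cj (C.δ ^ 0)) ∨
    K.map (MulAut.conj g).toMonoidHom = C.K0.map (cj (C.δ ^ 1)) ∨
    K.map (MulAut.conj g).toMonoidHom = C.K0.map (cj (C.δ ^ 2)) := by
  have : Fact (Nat.Prime 3) := ⟨by norm_num⟩
  obtain ⟨g, hg⟩ := exists_le_conj (K := K) C.isPGroup (by
    have := K.index_mul_card
    rw [card_of_ty h, C.card_SU6] at this
    omega)
  have h' := h.map (MulAut.conj g).toMonoidHom (MulAut.conj g).injective
  obtain ⟨m, hm, e⟩ := C.orbit_eq hg (card_of_ty h')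
  refine ⟨g, hm.imp (fun hm => C.eq_of_orbit h' ?_) (Or.imp (fun hm => C.eq_of_orbit h' ?_)
    fun hm => C.eq_of_orbit h' ?_)⟩
  · rw [e, hm, pow_zero, one_smul]
  · rw [e, hm, pow_one, C.δ_sem.1]
  · rw [e, hm, C.δ_sem.2]

theorem not_conj {i j : ℕ} (hj : j = 1 ∨ j = 2) : ¬ ∃ g : SU 6 F 2,
    (C.K0.map (cj (C.δ ^ i))).map (MulAut.conj g).toMonoidHom = C.K0.map (cj (C.δ ^ (i + j))) := by
  rintro ⟨g, hg⟩
  have h1 := congrArg (Subgroup.map (cj (C.δ ^ (i + j))⁻¹)) hg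
  rw [map_conj_eq, map_cj_cj, map_cj_cj, map_cj_cj, inv_mul_cancel, map_cj_one] at h1
  have h2 := C.det_eq_one h1
  have h3 : detGU 6 F 2 (suToGU 6 F 2 g) = 1 := by
    rw [← MonoidHom.mem_ker, ← range_suToGU]
    exact ⟨g, rfl⟩
  rw [map_mul, map_mul, h3, mul_one, map_inv, inv_mul_eq_one, map_pow, map_pow, pow_add, mul_eq_left] at h2
  have h4 := congrArg Units.val h2
  rw [Units.val_pow_eq_pow_val, C.det_δ, Units.val_one] at h4
  rcases hj with rfl | rfl
  · exact omega_ne_one C.two C.om' ((pow_one ω).symm.trans h4)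
  · exact omega_ne_zero C.om' (by linear_combination C.om - h4)

end Ctx

theorem exists_ctx (hF : Fintype.card F = 4) : ∃ ω : F, Ctx ω := by
  obtain ⟨ω, h⟩ := Comput.exists_omega hF
  exact ⟨ω, hF, by linear_combination h - two_zero (F := F) hF⟩

end CfsgLib.U62K
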